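import Groth.Agent.Lib.ExtPowX.Sheaf
import Groth.Agent.Lib.QCoh.FT
import Groth.Prelude.Def_Coh

/-!
# An exterior power of a coherent module is coherent
-/

set_option autoImplicit false
set_option backward.isDefEq.respectTransparency false
set_option linter.all false

universe u

open CategoryTheory AlgebraicGeometry TopologicalSpace Opposite
open GrothLib.InvExt (mres)

noncomputable section

namespace GrothLib.DetMod12

variable {X : Scheme.{u}} {E L : X.Modules} {k : ℕ}

/-- The identification is compatible with restriction on all wedges. -/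
theorem exists_compat (hL : ExtPow.IsExtPow k E L) :
    ∃ φ : ∀ U : X.affineOpens, Γ(L, U.1) ≃ₗ[Γ(X, U.1)] ↥(⋀[Γ(X, U.1)]^k Γ(E, U.1)),
      ∀ (U V : X.affineOpens) (h : V.1 ≤ U.1) (z : ↥(⋀[Γ(X, U.1)]^k Γ(E, U.1))),
        mres L h ((φ U).symm z) = (φ V).symm (ExtPowX.wRes E k h z) := by
  obtain ⟨φ, hφ⟩ := hL
  let φ' : ∀ U : X.affineOpens, Γ(L, U.1) ≃ₗ[Γ(X, U.1)] ↥(⋀[Γ(X, U.1)]^k Γ(E, U.1)) := φ
  refine ⟨φ', fun U V h z => ?_⟩
  have hz : z ∈ Submodule.span Γ(X, U.1) (Set.range (exteriorPower.ιMulti Γ(X, U.1) k (M := Γ(E, U.1)))) := by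
    rw [exteriorPower.ιMulti_span]; exact Submodule.mem_top
  induction hz using Submodule.span_induction with
  | mem y hy =>
    obtain ⟨v, rfl⟩ := hy
    rw [ExtPowX.wRes_ιMulti]
    exact hφ U V h v
  | zero =>
    simp only [map_zero]
  | add a b _ _ ha hb =>
    simp only [map_add]
    exact congrArg₂ (· + ·) ha hb
  | smul c a _ ha =>
    rw [map_smul, map_smulₛₗ (ExtPowX.wRes E k h), map_smul]
    exact (Scheme.Modules.map_smul L _ c _).trans (congrArg (_ • ·) ha)

theorem isQuasicoherent_of_isExtPow [E.IsQuasicoherent] (hL : ExtPow.IsExtPow k E L) : L.IsQuasicoherent := by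
  obtain ⟨φ, hφ⟩ := exists_compat hL
  refine (QCoh.isQuasicoherent_iff_smulLift_smulSep L).2 fun U hU g => ?_
  let D : X.affineOpens := ⟨X.basicOpen g, hU.basicOpen g⟩
  have hc := hφ ⟨U, hU⟩ D (X.basicOpen_le g)
  refine ⟨fun s => ?_, fun t ht => ?_⟩
  · obtain ⟨N, x, hx⟩ := ExtPowX.exists_wRes_eq E k hU g (φ D s)
    refine ⟨N, (φ ⟨U, hU⟩).symm x, ?_⟩
    refine (hc x).trans ?_
    rw [hx]
    exact (map_smul (φ D).symm _ _).trans (congrArg (_ • ·) ((φ D).symm_apply_apply s))
  · letI : Algebra Γ(X, U) Γ(X, X.basicOpen g) := (X.presheaf.map (homOfLE (X.basicOpen_le g)).op).hom.toAlgebra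
    haveI := hU.isLocalization_of_eq_basicOpen g (homOfLE (X.basicOpen_le g)) rfl
    letI : Module Γ(X, U) Γ(E, X.basicOpen g) := Module.compHom _ (algebraMap Γ(X, U) Γ(X, X.basicOpen g))
    haveI : IsScalarTower Γ(X, U) Γ(X, X.basicOpen g) Γ(E, X.basicOpen g) :=
      IsScalarTower.of_algebraMap_smul fun _ _ => rfl
    let f : Γ(E, U) →ₗ[Γ(X, U)] Γ(E, X.basicOpen g) :=
      { toFun := mres E (X.basicOpen_le g)
        map_add' := map_add (E.presheaf.map (homOfLE (X.basicOpen_le g)).op).hom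
        map_smul' := fun c x => Scheme.Modules.map_smul E _ c x }
    have hs := QCoh.smulLift_and_smulSep_of_isAffineOpen hU E g
    haveI : IsLocalizedModule (.powers g) f := by
      refine IsLocalizedModule.Away.mk_of_addCommGroup ?_ (fun y => ?_) (fun x hx => hs.2 x hx)
      · have hu : IsUnit (algebraMap Γ(X, U) Γ(X, X.basicOpen g) g) := IsLocalization.Away.algebraMap_isUnit g
        rw [Module.End.isUnit_iff]
        constructor
        · intro a b hab
          exact hu.smul_left_cancel.1 hab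
        · intro a
          obtain ⟨v, hv⟩ := hu
          exact ⟨(↑v⁻¹ : Γ(X, X.basicOpen g)) • a, by
            show algebraMap _ Γ(X, X.basicOpen g) g • _ = a
            rw [← hv, Module.End.one_apply, ← mul_smul, Units.mul_inv, one_smul]⟩
      · obtain ⟨N, x, hx⟩ := hs.1 y
        exact ⟨N, x, by
          rw [← IsScalarTower.algebraMap_smul Γ(X, X.basicOpen g), map_pow]
          exact hx.symm⟩
    have h0 : ExtPowX.wRes E k (X.basicOpen_le g) (φ ⟨U, hU⟩ t) = 0 := by
      have := hc (φ ⟨U, hU⟩ t)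
      rw [LinearEquiv.symm_apply_apply] at this
      exact (φ D).symm.injective ((this.symm.trans ht).trans (map_zero _).symm)
    obtain ⟨⟨_, N, rfl⟩, hN⟩ := ExtPowX.exists_smul_eq_zero_of_extMap_eq_zero (B := Γ(X, X.basicOpen g))
      (.powers g) f k (ExtPowX.resL E (X.basicOpen_le g)) (fun _ => rfl) h0
    exact ⟨N, (φ ⟨U, hU⟩).injective (by rw [map_smul, map_zero]; exact hN)⟩

theorem isCoh_of_isExtPow (hE : Coh.IsCoh E) (hL : ExtPow.IsExtPow k E L) : Coh.IsCoh L := by
  have := hE.1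
  have := isQuasicoherent_of_isExtPow hL
  refine ⟨this, (QCoh.isFiniteType_iff_moduleFinite L).2 fun U hU => ?_⟩
  obtain ⟨φ, -⟩ := exists_compat hL
  have : Module.Finite Γ(X, U) Γ(E, U) := QCoh.moduleFinite_of_isFiniteType E hE.2 hU
  exact Module.Finite.equiv (φ ⟨U, hU⟩).symm

end GrothLib.DetMod12
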