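import Groth.Agent.Lib.Goodman.Divisor
import Groth.Agent.Lib.Ref1.Dual
import Groth.Agent.Lib.Ample.Functorial
import Groth.Agent.Lib.RegUFD.Basic
import Groth.Agent.Lib.RegSeqLoc.Scheme
import Groth.Agent.Lib.QCoh.ClosedImmersion
import Groth.Agent.Lib.OX.Exact
import Groth.Agent.Lib.FinCov.Frame
import Groth.Agent.Lib.TensorGen.Det

/-!
# An integral effective Cartier divisor and the cokernel supported on it
-/

set_option autoImplicit false
set_option backward.isDefEq.respectTransparency false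
set_option linter.all false

universe u

open CategoryTheory CategoryTheory.Limits AlgebraicGeometry TopologicalSpace Opposite
open GrothLib.Ref1 (sp spR hη Gen secOrd)
open GrothLib.FacDiv (ordg)
open GrothLib.OmegaBC (sval)

noncomputable section

namespace GrothLib.DetMod12

variable {X : Scheme.{u}}

theorem normal_of_regular [IsIntegral X] (hreg : ∀ x : X, IsRegularLocalRing (X.presheaf.stalk x)) :
    Pi1.IsNormalScheme X := Goodman.normal_of_regular hreg

theorem isInvertible_of_regular [IsIntegral X] [IsLocallyNoetherian X]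
    (hreg : ∀ x : X, IsRegularLocalRing (X.presheaf.stalk x)) {F : X.Modules} (hF : RefHull.IsRef1 F) :
    PicF.IsInvertible F :=
  FacDiv.isInvertible_of_ufd (normal_of_regular hreg) hF fun x =>
    haveI := hreg x
    RegUFD.ufd_of_isRegularLocalRing _

section Tensor

variable [IsIntegral X] [IsLocallyNoetherian X]

theorem secOrd_tmul {L T : X.Modules} (hL : PicF.IsInvertible L) (hT : PicF.IsInvertible T)
    {v : L.presheaf.stalk (genericPoint X)} (hv : v ≠ 0) {w : T.presheaf.stalk (genericPoint X)} (hw : w ≠ 0)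
    {x : X} (hx : Order.coheight x = 1) :
    Ref1.tmulStalk L T (genericPoint X) v w ≠ 0 ∧
      secOrd (CohB1.tensorMod L T) (Ref1.tmulStalk L T (genericPoint X) v w) x = secOrd L v x + secOrd T w x := by
  have hq := (FacDiv.isRef1_of_isInvertible (Ample.isInvertible_tensorMod hL hT)).1.1
  have := (FacDiv.isRef1_of_isInvertible hL).1.1
  have := (FacDiv.isRef1_of_isInvertible hT).1.1
  obtain ⟨t, ht⟩ := Ref1.exists_gen_of_isInvertible hL x
  obtain ⟨t', ht'⟩ := Ref1.exists_gen_of_isInvertible hT x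
  obtain ⟨φ, hφ, rfl⟩ := Ref1.exists_coeff ht hv
  obtain ⟨ψ, hψ, rfl⟩ := Ref1.exists_coeff ht' hw
  have hg := Ref1.Gen.tmulStalk L T ht ht'
  have he : Ref1.tmulStalk L T (genericPoint X) (φ • sp L (hη x) t) (ψ • sp T (hη x) t') =
      (φ * ψ) • sp (CohB1.tensorMod L T) (hη x) (Ref1.tmulStalk L T x t t') := by
    simp only [map_smul, LinearMap.smul_apply, Ref1.sp_tmulStalk, smul_smul, mul_comm]
  refine ⟨?_, ?_⟩
  · rw [he]
    exact fun h => hg.sp.ne_zero ((Ref1.isUnit_of_ne_zero (mul_ne_zero hφ hψ)).smul_eq_zero.1 h)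
  · rw [he, Ref1.secOrd_gen hx hg (mul_ne_zero hφ hψ), Ref1.secOrd_gen hx ht hφ, Ref1.secOrd_gen hx ht' hψ]
    exact FacDiv.ordg_mul hφ hψ

theorem tmul_ne_zero {L T : X.Modules} (hL : PicF.IsInvertible L) (hT : PicF.IsInvertible T)
    {v : L.presheaf.stalk (genericPoint X)} (hv : v ≠ 0) {w : T.presheaf.stalk (genericPoint X)} (hw : w ≠ 0) :
    Ref1.tmulStalk L T (genericPoint X) v w ≠ 0 := by
  obtain ⟨t, ht⟩ := Ref1.exists_gen_of_isInvertible hL (genericPoint X)
  obtain ⟨t', ht'⟩ := Ref1.exists_gen_of_isInvertible hT (genericPoint X)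
  obtain ⟨φ, rfl⟩ := ht.2 v
  obtain ⟨ψ, rfl⟩ := ht'.2 w
  dsimp only at hv hw ⊢
  simp only [map_smul, LinearMap.smul_apply, smul_smul]
  refine fun h => (Ref1.Gen.tmulStalk L T ht ht').ne_zero ((Ref1.isUnit_of_ne_zero ?_).smul_eq_zero.1 h)
  first | exact mul_ne_zero (left_ne_zero_of_smul hv) (left_ne_zero_of_smul hw) | exact mul_ne_zero (left_ne_zero_of_smul hw) (left_ne_zero_of_smul hv)

/-- Powers of an invertible module multiply the divisor. -/
theorem exists_secOrd_tensorPow {T : X.Modules} (hT : PicF.IsInvertible T)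
    {θ : T.presheaf.stalk (genericPoint X)} (hθ : θ ≠ 0) : ∀ k : ℕ,
    ∃ v : (CohB1.tensorPow T k).presheaf.stalk (genericPoint X), v ≠ 0 ∧
      ∀ x : X, Order.coheight x = 1 → secOrd (CohB1.tensorPow T k) v x = k * secOrd T θ x
  | 0 => by
    refine ⟨HomSh.unitStalk (genericPoint X) 1, (Ref1.gen_unitStalk _).ne_zero, fun x hx => ?_⟩
    show secOrd (Coh.structureModule X) _ x = _
    haveI := (HomSh.isCoh_structureModule X).1
    have := Ref1.secOrd_gen hx (Ref1.gen_unitStalk x) (φ := 1) one_ne_zero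
    rw [one_smul, Ref1.sp_unitStalk, map_one] at this
    exact this.trans ((FacDiv.ordg_one x).trans (by simp))
  | k + 1 => by
    obtain ⟨v, hv, h⟩ := exists_secOrd_tensorPow hT hθ k
    have hk := Ample.isInvertible_tensorPow hT k
    refine ⟨Ref1.tmulStalk (CohB1.tensorPow T k) T _ v θ, tmul_ne_zero hk hT hv hθ, fun x hx => ?_⟩
    refine (secOrd_tmul hk hT hv hθ hx).2.trans ?_
    rw [h x hx]
    push_cast
    ring

end Tensor

variable {𝓓 : X.IdealSheafData}

theorem st_eq_ker (z : 𝓓.subscheme) :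
    Goodman.st 𝓓 (𝓓.subschemeι z) = RingHom.ker (𝓓.subschemeι.stalkMap z).hom := by
  obtain ⟨V, hV, hx, -⟩ := exists_isAffineOpen_mem_and_subset (show 𝓓.subschemeι z ∈ (⊤ : X.Opens) from trivial)
  rw [RegSeqLoc.ker_stalkMap 𝓓.subschemeι z ⟨V, hV⟩ hx, Scheme.IdealSheafData.ker_subschemeι]
  exact Goodman.st_eq 𝓓 ⟨V, hV⟩ hx

/-- The generic point of an integral effective Cartier divisor has codimension one, it is the only
such point on the divisor, and the ideal is there the maximal ideal. -/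
theorem exists_divisor_point [IsIntegral X] [IsLocallyNoetherian X] (hD : BlowUp.IsEffCartierIdeal 𝓓)
    (hDi : IsIntegral 𝓓.subscheme) :
    ∃ (ξ : 𝓓.subscheme) (ϖ : X.presheaf.stalk (𝓓.subschemeι ξ)), Irreducible ϖ ∧
      (𝓓.subschemeι.stalkMap ξ).hom ϖ = 0 ∧ Goodman.st 𝓓 (𝓓.subschemeι ξ) = Ideal.span {ϖ} ∧
      Order.coheight (𝓓.subschemeι ξ) = 1 ∧
      (∀ x : X, Order.coheight x = 1 → x ∈ Set.range 𝓓.subschemeι → x = 𝓓.subschemeι ξ) ∧
      genericPoint X ∉ Set.range 𝓓.subschemeι := by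
  let ι := 𝓓.subschemeι
  let ξ := genericPoint 𝓓.subscheme
  let A := X.presheaf.stalk (ι ξ)
  have hF : IsField (𝓓.subscheme.presheaf.stalk ξ) := CurvePoints.isField_stalk_genericPoint
  have hmax : Goodman.st 𝓓 (ι ξ) = IsLocalRing.maximalIdeal A := by
    rw [st_eq_ker ξ]
    letI := hF.toField
    exact IsLocalRing.eq_maximalIdeal (RingHom.ker_isMaximal_of_surjective _ (ι.stalkMap_surjective ξ))
  have hinv := IdealModSec.isInvertible_of_isEffCartier hD
  obtain ⟨tI, htI⟩ := Ref1.exists_gen_of_isInvertible hinv (ι ξ)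
  let ϖ : A := sval 𝓓 (ι ξ) tI
  have hspan : Goodman.st 𝓓 (ι ξ) = Ideal.span {ϖ} := le_antisymm (by
    rintro _ ⟨w, rfl⟩
    obtain ⟨c, rfl⟩ := htI.2 w
    exact Ideal.mem_span_singleton'.2 ⟨c, ((sval 𝓓 (ι ξ)).map_smul c tI).symm⟩)
    ((Ideal.span_singleton_le_iff_mem _).2 (LinearMap.mem_range_self _ tI))
  have hϖ0 : ϖ ≠ 0 := fun h => htI.ne_zero (OmegaBC.sval_injective 𝓓 (ι ξ) (h.trans (map_zero _).symm))
  have hm : IsLocalRing.maximalIdeal A = Ideal.span {ϖ} := hmax.symm.trans hspan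
  have hnf : ¬ IsField A := fun h => hϖ0 (by
    rw [IsLocalRing.isField_iff_maximalIdeal_eq.1 h] at hm
    exact Ideal.span_singleton_eq_bot.1 hm.symm)
  haveI : IsDiscreteValuationRing A :=
    ((IsDiscreteValuationRing.TFAE A hnf).out 0 4).2 (⟨⟨ϖ, hm⟩⟩ : (IsLocalRing.maximalIdeal A).IsPrincipal)
  have hϖ : Irreducible ϖ := (IsDiscreteValuationRing.irreducible_iff_uniformizer ϖ).2 hm
  have hcoh : Order.coheight (ι ξ) = 1 := Ref1.coheight_of_dim_one (IsPrincipalIdealRing.ringKrullDim_eq_one A hnf)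
  have hspec : ∀ z, ι ξ ⤳ ι z := fun z => (genericPoint_specializes z).map ι.continuous
  have hne : ι ξ ≠ genericPoint X := Ref1.ne_genericPoint_of_coheight_one hcoh
  refine ⟨ξ, ϖ, hϖ, ?_, hspan, hcoh, ?_, ?_⟩
  · have : ϖ ∈ Goodman.st 𝓓 (ι ξ) := hspan ▸ Ideal.mem_span_singleton_self ϖ
    rw [st_eq_ker ξ] at this
    exact this
  · rintro x hx ⟨z, rfl⟩
    exact (Ref1.eq_of_specializes_coheight_one hx (hspec z) hne).symm
  · rintro ⟨z, hz⟩
    exact hne (((hspec z).antisymm (hz ▸ hη (ι ξ))).eq.trans hz)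

theorem exists_secOrd_dual_idealMod [IsIntegral X] [IsLocallyNoetherian X]
    (hreg : ∀ x : X, IsRegularLocalRing (X.presheaf.stalk x)) (hD : BlowUp.IsEffCartierIdeal 𝓓)
    (ξ : 𝓓.subscheme) (ϖ : X.presheaf.stalk (𝓓.subschemeι ξ)) (hϖ : Irreducible ϖ)
    (hspan : Goodman.st 𝓓 (𝓓.subschemeι ξ) = Ideal.span {ϖ})
    (hη' : genericPoint X ∉ Set.range 𝓓.subschemeι) :
    PicF.IsInvertible (RefHull.dual (ClSub.idealMod 𝓓)) ∧
      ∃ θ : (RefHull.dual (ClSub.idealMod 𝓓)).presheaf.stalk (genericPoint X), θ ≠ 0 ∧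
        (Order.coheight (𝓓.subschemeι ξ) = 1 → secOrd _ θ (𝓓.subschemeι ξ) = 1) ∧
        ∀ x : X, Order.coheight x = 1 → x ∉ Set.range 𝓓.subschemeι → secOrd _ θ x = 0 := by
  let I := ClSub.idealMod 𝓓
  let η := genericPoint X
  have hX := normal_of_regular hreg
  have hinv := IdealModSec.isInvertible_of_isEffCartier hD
  have href := FacDiv.isRef1_of_isInvertible hinv
  have := href.1.1
  have hsp : ∀ (x : X) (v : I.presheaf.stalk x), sval 𝓓 η (sp I (hη x) v) = spR (hη x) (sval 𝓓 x v) := by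
    intro x v
    refine (HomSh.unitStalk η).injective ?_
    rw [← Goodman.stalkLin_idealModι, ← Ref1.stalkMapₗ_eq_stalkLin, Ref1.stalkMapₗ_sp,
      Ref1.stalkMapₗ_eq_stalkLin, Goodman.stalkLin_idealModι, Ref1.sp_unitStalk]
  have hsupp : ∀ x, x ∉ Set.range 𝓓.subschemeι → Goodman.st 𝓓 x = ⊤ := fun x hx =>
    Goodman.st_of_notMem 𝓓 (by rwa [← Scheme.IdealSheafData.range_subschemeι])
  obtain ⟨v₀, hv₀⟩ : (1 : X.presheaf.stalk η) ∈ Goodman.st 𝓓 η := (hsupp η hη').ge trivial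
  have hv0 : v₀ ≠ 0 := fun h => one_ne_zero (α := X.presheaf.stalk η) (by rw [← hv₀, h, map_zero])
  have hord : ∀ x, Order.coheight x = 1 → ∀ c, Goodman.st 𝓓 x = Ideal.span {c} → c ≠ 0 →
      secOrd I v₀ x = -ordg (spR (hη x) c) x := by
    intro x hx c hc hc0
    obtain ⟨t, ht⟩ := Ref1.exists_gen_of_isInvertible hinv x
    obtain ⟨φ, hφ, hvφ⟩ := Ref1.exists_coeff ht hv0
    have h1 : φ * spR (hη x) (sval 𝓓 x t) = 1 := by
      rw [← hsp, ← smul_eq_mul, ← map_smul]
      exact (congrArg (sval 𝓓 η) hvφ.symm).trans hv₀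
    obtain ⟨u, hu⟩ : Associated c (sval 𝓓 x t) := by
      rw [← Ideal.span_singleton_eq_span_singleton, ← hc]
      refine le_antisymm ?_ ((Ideal.span_singleton_le_iff_mem _).2 (LinearMap.mem_range_self _ t))
      rintro _ ⟨w, rfl⟩
      obtain ⟨a, rfl⟩ := ht.2 w
      exact Ideal.mem_span_singleton'.2 ⟨a, ((sval 𝓓 x).map_smul a t).symm⟩
    rw [hvφ, Ref1.secOrd_gen hx ht hφ]
    have hcu : ordg (spR (hη x) (u : X.presheaf.stalk x)) x = 0 := Ref1.ord_spR_of_isUnit u.isUnit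
    rw [← hu, map_mul] at h1
    have h2 := congrArg (fun z => ordg z x) h1
    rw [FacDiv.ordg_mul hφ (mul_ne_zero (Ref1.isUnit_spR hc0).ne_zero (Ref1.isUnit_spR u.ne_zero).ne_zero),
      FacDiv.ordg_mul (Ref1.isUnit_spR hc0).ne_zero (Ref1.isUnit_spR u.ne_zero).ne_zero, hcu, FacDiv.ordg_one] at h2
    show ordg φ x = _
    omega
  obtain ⟨θ, hθ0, hθ⟩ := Ref1.exists_secOrd_dual I hX href hv0
  refine ⟨isInvertible_of_regular hreg (Ref1.isRef1_dual I href), θ, hθ0, fun hξ => ?_, fun x hx hxD => ?_⟩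
  · rw [hθ _ hξ, hord _ hξ ϖ hspan hϖ.ne_zero, neg_neg]
    obtain ⟨ϖ₀, hϖ₀, h1, hfac⟩ := FacDiv.exists_irreducible_ord hX hξ
    obtain ⟨n, u, hu, hn⟩ := hfac ϖ hϖ.ne_zero
    have hnu : ordg (spR (hη _) u) (𝓓.subschemeι ξ) = 0 := Ref1.ord_spR_of_isUnit hu
    have hval : ordg (spR (hη _) ϖ) (𝓓.subschemeι ξ) = n := by
      rw [hn, map_mul, map_pow, FacDiv.ordg_mul (Ref1.isUnit_spR hu.ne_zero).ne_zero
        (pow_ne_zero n (Ref1.isUnit_spR hϖ₀).ne_zero), FacDiv.ordg_pow (Ref1.isUnit_spR hϖ₀).ne_zero, h1, hnu]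
      simp
    rw [hval]
    have hϖ₀u : ¬ IsUnit ϖ₀ := fun h => hϖ.not_isUnit (hn ▸ hu.mul (h.pow n))
    rcases n with _ | _ | n
    · exact absurd (by rw [hn, pow_zero, mul_one]; exact hu) hϖ.not_isUnit
    · rfl
    · rw [pow_succ, ← mul_assoc] at hn
      rcases hϖ.isUnit_or_isUnit hn with h' | h'
      · rw [IsUnit.mul_iff, pow_succ, IsUnit.mul_iff] at h'
        exact absurd h'.2.2 hϖ₀u
      · exact absurd h' hϖ₀u
  · rw [hθ x hx, hord x hx 1 ((hsupp x hxD).trans Ideal.span_singleton_one.symm) one_ne_zero, map_one,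
      FacDiv.ordg_one]
    rfl

/-- The cokernel of `a` vanishes off the divisor and is killed by the ideal and spanned by `s`
elements on it. -/
theorem stalk_cokernel {F F' : X.Modules} {G : 𝓓.subscheme.Modules} {s : ℕ}
    (hG : FlatMod.IsFinLocFreeOfRank s G) (a : F ⟶ F') (b : F' ⟶ (Scheme.Modules.pushforward 𝓓.subschemeι).obj G)
    (w : a ≫ b = 0) (hex : (ShortComplex.mk a b w).Exact) (hb : Epi b) :
    (∀ x : X, x ∉ Set.range 𝓓.subschemeι → Function.Surjective (RefHull.stalkMapₗ a x)) ∧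
    ∀ (z : 𝓓.subscheme) (ϖ : X.presheaf.stalk (𝓓.subschemeι z)), (𝓓.subschemeι.stalkMap z).hom ϖ = 0 →
      (∀ u : F'.presheaf.stalk (𝓓.subschemeι z), ϖ • u ∈ LinearMap.range (RefHull.stalkMapₗ a (𝓓.subschemeι z))) ∧
      ∃ y : Fin s → F'.presheaf.stalk (𝓓.subschemeι z),
        Submodule.span (X.presheaf.stalk (𝓓.subschemeι z)) (Set.range y) ⊔
          LinearMap.range (RefHull.stalkMapₗ a (𝓓.subschemeι z)) = ⊤ := by
  let ι := 𝓓.subschemeι
  have hker : ∀ (x : X) (u : F'.presheaf.stalk x), QCoh.stalkLin b x u = 0 →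
      u ∈ LinearMap.range (RefHull.stalkMapₗ a x) := fun x u hu => by
    have h := (OX.exact_iff _).1 hex x
    rw [ShortComplex.moduleCat_exact_iff] at h
    obtain ⟨v, hv⟩ := h u hu
    exact ⟨v, (LinearMap.congr_fun (Ref1.stalkMapₗ_eq_stalkLin a x) v).trans hv⟩
  refine ⟨fun x hx u => hker x u ?_, fun z ϖ hϖ => ?_⟩
  · have hsupp : Subsingleton (((Scheme.Modules.pushforward ι).obj G).presheaf.stalk x) := by
      by_contra h
      exact hx (QCoh.support_pushforward_subset_range ι G h)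
    exact Subsingleton.elim _ _
  · have hbij := QCoh.pushStalkHom_bijective ι z G ι.isClosedEmbedding.isInducing
    let P := (QCoh.pushStalkHom ι z G).hom
    have hPs : ∀ (c : X.presheaf.stalk (ι z)) (v), P (c • v) =
        ((ι.stalkMap z).hom c • (show G.presheaf.stalk z from P v) : G.presheaf.stalk z) := fun c v => P.map_smul c v
    refine ⟨fun u => hker _ _ ?_, ?_⟩
    · apply hbij.1
      rw [map_zero]
      refine (congrArg P ((QCoh.stalkLin b (ι z)).map_smul ϖ u)).trans ?_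
      refine (hPs ϖ _).trans ?_
      rw [hϖ]
      exact zero_smul _ _
    · obtain ⟨T, e, hzT, he⟩ := FinCov.exists_frame_nhd_of_rank hG z
      have hsp := TensorGen.bijective_stalk_of_frame he hzT
      choose g hg using fun j => hbij.2 (G.presheaf.germ T z hzT (e j))
      have hsurj : Function.Surjective (QCoh.stalkLin b (ι z)) :=
        (ModuleCat.epi_iff_surjective _).1 (inferInstance : Epi ((OX.stalk (ι z)).map b))
      choose y hy using fun j => hsurj (g j)
      refine ⟨y, eq_top_iff.2 fun u _ => ?_⟩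
      obtain ⟨c, hc⟩ := hsp.2 (P (QCoh.stalkLin b (ι z) u))
      choose c' hc' using fun j => ι.stalkMap_surjective z (c j)
      have h0 : u - ∑ j, c' j • y j ∈ LinearMap.range (RefHull.stalkMapₗ a (ι z)) := by
        refine hker _ _ ?_
        rw [map_sub, sub_eq_zero, map_sum]
        apply hbij.1
        refine hc.symm.trans ?_
        rw [map_sum]
        refine Finset.sum_congr rfl fun j _ => ?_
        refine Eq.trans ?_ ((congrArg P ((QCoh.stalkLin b (ι z)).map_smul (c' j) (y j))).trans (hPs _ _)).symm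
        rw [hy]
        exact congrArg₂ (· • ·) (hc' j).symm (hg j).symm
      have hu : u = ∑ j, c' j • y j + (u - ∑ j, c' j • y j) := by abel
      rw [hu]
      exact Submodule.add_mem_sup (Submodule.sum_mem _ fun j _ =>
        Submodule.smul_mem _ _ (Submodule.subset_span ⟨j, rfl⟩)) h0

end GrothLib.DetMod12
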