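import Mathlib.LinearAlgebra.FreeModule.PID
import Mathlib.LinearAlgebra.Determinant
import Mathlib.LinearAlgebra.Matrix.ToLin
import Mathlib.RingTheory.DiscreteValuationRing.Basic
import Mathlib.RingTheory.LocalRing.ResidueField.Basic
import Mathlib.LinearAlgebra.Dimension.Constructions

/-!
# The determinant of an inclusion of lattices with cokernel killed by the uniformiser
-/

set_option autoImplicit false

universe u

namespace GrothLib.DetMod12

open Module IsLocalRing

variable {A : Type u} [CommRing A] [IsDomain A] [IsDiscreteValuationRing A]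

/-- If the cokernel of an injective endomorphism of `A^r` is killed by the uniformiser and generated
by `s` elements, its determinant is the `k`-th power of the uniformiser with `k ≤ min s r`. -/
theorem exists_associated_det_pow {ϖ : A} (hϖ : Irreducible ϖ) {r s : ℕ} (M : Matrix (Fin r) (Fin r) A)
    (hdet : M.det ≠ 0) (hkill : ∀ v : Fin r → A, ϖ • v ∈ LinearMap.range (Matrix.toLin' M))
    (g : Fin s → Fin r → A)
    (hgen : Submodule.span A (Set.range g) ⊔ LinearMap.range (Matrix.toLin' M) = ⊤) :
    ∃ k ≤ min s r, Associated M.det (ϖ ^ k) := by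
  classical
  let f := Matrix.toLin' M
  have hfdet : LinearMap.det f = M.det := LinearMap.det_toLin' M
  have hinj : Function.Injective f := by
    rw [← LinearMap.ker_eq_bot]
    by_contra h
    exact hdet (hfdet ▸ (LinearMap.det_eq_zero_iff_ker_ne_bot).2 h)
  have hrank : Module.finrank A (LinearMap.range f) = Module.finrank A (Fin r → A) :=
    LinearMap.finrank_range_of_inj hinj
  obtain ⟨bM, a, bN, hab⟩ := Submodule.exists_smith_normal_form_of_rank_eq (Pi.basisFun A (Fin r)) hrank
  let bP : Basis (Fin r) A (Fin r → A) := bN.map (LinearEquiv.ofInjective f hinj).symm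
  have hbP : ∀ i, f (bP i) = a i • bM i := fun i => by
    rw [← hab i]
    show f ((LinearEquiv.ofInjective f hinj).symm (bN i)) = _
    exact congrArg Subtype.val ((LinearEquiv.ofInjective f hinj).apply_symm_apply (bN i))
  have hprod : Associated M.det (∏ i, a i) := by
    let E := bM.equiv bP (Equiv.refl _)
    have h1 : LinearMap.det (f ∘ₗ (E : (Fin r → A) →ₗ[A] Fin r → A)) = ∏ i, a i := by
      rw [← LinearMap.det_toMatrix bM, show LinearMap.toMatrix bM bM (f ∘ₗ (E : (Fin r → A) →ₗ[A] Fin r → A)) =
        Matrix.diagonal a from ?_, Matrix.det_diagonal]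
      ext i j
      rw [LinearMap.toMatrix_apply, LinearMap.comp_apply, LinearEquiv.coe_coe, Basis.equiv_apply,
        Equiv.refl_apply, hbP, map_smul, Basis.repr_self]
      by_cases h : i = j
      · subst h; simp
      · simp [h, Ne.symm h]
    rw [← h1, LinearMap.det_comp, hfdet]
    exact (associated_mul_unit_right _ _ E.isUnit_det')
  have hdvd : ∀ i, a i ∣ ϖ := fun i => by
    obtain ⟨v, hv⟩ := hkill (bM i)
    have := congrArg (fun w => bM.repr w i) hv
    rw [← bP.sum_repr v] at this
    simp only [map_sum, map_smul] at this
    simp only [show ∀ j, (Matrix.toLin' M) (bP j) = a j • bM j from hbP, map_smul, Basis.repr_self,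
      Finsupp.coe_finsetSum, Finset.sum_apply, Finsupp.coe_smul, Pi.smul_apply, smul_eq_mul,
      Finsupp.single_apply, Finset.sum_ite_eq', Finset.mem_univ, if_true, mul_ite, mul_one, mul_zero] at this
    exact ⟨bP.repr v i, by rw [mul_comm]; exact this.symm⟩
  let S := Finset.univ.filter fun i => ¬ IsUnit (a i)
  refine ⟨S.card, le_min ?_ ((Finset.card_le_univ S).trans_eq (Fintype.card_fin r)), hprod.trans ?_⟩
  · let q : (Fin r → A) →ₗ[A] (S → ResidueField A) :=
      LinearMap.pi fun i => Algebra.linearMap A (ResidueField A) ∘ₗ bM.coord i.1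
    have hq : ∀ v, q (f v) = 0 := fun v => by
      funext i
      rw [← bP.sum_repr v]
      simp only [map_sum, map_smul, hbP]
      rw [Finset.sum_apply]
      refine Finset.sum_eq_zero fun j _ => ?_
      show bP.repr v j • a j • (IsLocalRing.residue A (bM.repr (bM j) i.1)) = 0
      by_cases hji : j = i.1
      · have : ¬ IsUnit (a j) := hji ▸ (Finset.mem_filter.1 i.2).2
        have h0 : IsLocalRing.residue A (a j) = 0 := (residue_eq_zero_iff _).2 ((mem_maximalIdeal _).2 this)
        rw [Algebra.smul_def (a j), show algebraMap A (ResidueField A) (a j) = 0 from h0, zero_mul, smul_zero]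
      · rw [Basis.repr_self, Finsupp.single_apply, if_neg hji, map_zero, smul_zero, smul_zero]
    have hsurj : Function.Surjective q := by
      intro c
      choose d hd using fun i => IsLocalRing.residue_surjective (c i)
      refine ⟨∑ i : S, d i • bM i.1, funext fun i => ?_⟩
      show IsLocalRing.residue A (bM.coord i.1 _) = c i
      rw [map_sum, ← hd i]
      refine congrArg _ (Eq.trans (Finset.sum_eq_single i (fun j _ hj => ?_) (by simp)) ?_)
      · rw [map_smul, Basis.coord_apply, Basis.repr_self, Finsupp.single_apply,
          if_neg (fun h => hj (Subtype.ext h)), smul_zero]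
      · rw [map_smul, Basis.coord_apply, Basis.repr_self, Finsupp.single_eq_same, smul_eq_mul, mul_one]
    have hspan : Submodule.span (ResidueField A) (Set.range fun j => q (g j)) = ⊤ := by
      refine eq_top_iff.2 fun c _ => ?_
      obtain ⟨v, rfl⟩ := hsurj c
      obtain ⟨x, hx, y, ⟨z, rfl⟩, rfl⟩ := Submodule.mem_sup.1 (hgen.ge (Submodule.mem_top (x := v)))
      rw [map_add, show q (Matrix.toLin' M z) = 0 from hq z, add_zero]
      refine Submodule.span_le_restrictScalars A (ResidueField A) (Set.range fun j => q (g j)) ?_
      rw [Set.range_comp' q g, ← Submodule.map_span]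
      exact Submodule.mem_map_of_mem hx
    have := finrank_range_le_card (R := ResidueField A) (fun j => q (g j))
    rw [Set.finrank, hspan, finrank_top, Module.finrank_pi, Fintype.card_coe, Fintype.card_fin] at this
    exact this
  · rw [← Finset.prod_filter_mul_prod_filter_not Finset.univ (fun i => ¬ IsUnit (a i))]
    refine (associated_mul_unit_left _ _ (IsUnit.prod_iff.2 fun i hi => ?_)).trans ?_
    · exact not_not.1 (Finset.mem_filter.1 hi).2
    rw [← Finset.prod_const (s := S) ϖ]
    refine Associated.prod S _ _ fun i hi => ?_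
    exact ((hϖ.dvd_iff).1 (hdvd i)).resolve_left (Finset.mem_filter.1 hi).2 |>.symm

end GrothLib.DetMod12
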