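import Groth.Agent.Lib.DetMod12.ExtCoh
import Groth.Agent.Lib.RhoShBig.DDual
import Groth.Agent.Lib.Ref1.Rank

/-!
# The generic stalk of a top exterior power
-/

set_option autoImplicit false
set_option backward.isDefEq.respectTransparency false
set_option linter.all false

universe u

open CategoryTheory CategoryTheory.Limits AlgebraicGeometry TopologicalSpace Opposite
open GrothLib.InvExt (mres IsGen)
open GrothLib.Ref1 (sp spR hη Gen)

noncomputable section

namespace GrothLib.DetMod12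

variable {X : Scheme.{u}} [IsIntegral X] {F L : X.Modules} {r : ℕ}

/-- Over a dense open where `F` is free of rank `r`, the generic stalk of an `r`-th exterior power
is the determinant line, and the image of every stalk is spanned by wedges. -/
theorem exists_wedge (hL : ExtPow.IsExtPow r F L) (U : X.Opens) (hηU : genericPoint X ∈ U)
    (hF : FlatMod.IsFinLocFreeOfRank r (F.restrict U.ι)) :
    ∃ (b : Module.Basis (Fin r) (X.presheaf.stalk (genericPoint X)) (F.presheaf.stalk (genericPoint X)))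
      (e₀ : L.presheaf.stalk (genericPoint X)), Gen L (genericPoint X) e₀ ∧
      (∀ (x : X) (v : Fin r → F.presheaf.stalk x), ∃ l : L.presheaf.stalk x,
        sp L (hη x) l = b.det (fun i => sp F (hη x) (v i)) • e₀) ∧
      ∀ (x : X) (P : L.presheaf.stalk (genericPoint X) → Prop), P 0 → (∀ p q, P p → P q → P (p + q)) →
        (∀ (c : X.presheaf.stalk x) p, P p → P (spR (hη x) c • p)) →
        (∀ v : Fin r → F.presheaf.stalk x, P (b.det (fun i => sp F (hη x) (v i)) • e₀)) →
        ∀ l : L.presheaf.stalk x, P (sp L (hη x) l) := by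
  classical
  let η := genericPoint X
  let K := X.presheaf.stalk η
  obtain ⟨T, e, hxT, he⟩ := FinCov.exists_frame_nhd_of_rank hF ⟨η, hηU⟩
  obtain ⟨A₀, hA₀, hηA₀, hAT⟩ := exists_isAffineOpen_mem_and_subset (U := U.ι ''ᵁ T) (x := η) ⟨⟨η, hηU⟩, hxT, rfl⟩
  obtain ⟨φ, hφ⟩ := hL
  let φ' : ∀ W : X.affineOpens, Γ(L, W.1) ≃ₗ[Γ(X, W.1)] ↥(⋀[Γ(X, W.1)]^r Γ(F, W.1)) := φ
  have he₀ := TensorGen.isFrame_restrict (RhoShBig.isFrame_of_restrict he) hAT
  let b₀ : Fin r → Γ(F, A₀) := fun i => mres F hAT (show Γ(F, U.ι ''ᵁ T) from e i)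
  let g : Fin r → F.presheaf.stalk η := fun i => F.presheaf.germ A₀ η hηA₀ (b₀ i)
  let Lg := Fintype.linearCombination K g
  let bK : Module.Basis (Fin r) K (F.presheaf.stalk η) :=
    Module.Basis.ofEquivFun (LinearEquiv.ofBijective Lg (TensorGen.bijective_stalk_of_frame he₀ hηA₀)).symm
  have hbK : ∀ i, bK i = g i := fun i => by
    simp only [bK, Module.Basis.coe_ofEquivFun, LinearEquiv.symm_symm]
    show Lg (Pi.single i 1) = _
    simp [Lg]
  let e₀ : L.presheaf.stalk η :=
    L.presheaf.germ A₀ η hηA₀ ((φ' ⟨A₀, hA₀⟩).symm (exteriorPower.ιMulti _ r b₀))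
  have key : ∀ (A : X.affineOpens) (hηA : η ∈ A.1) (m : Fin r → Γ(F, A.1)),
      L.presheaf.germ A.1 η hηA ((φ' A).symm (exteriorPower.ιMulti _ r m)) =
        bK.det (fun i => F.presheaf.germ A.1 η hηA (m i)) • e₀ := by
    intro A hηA m
    obtain ⟨W, hW, hηW, hWle⟩ := exists_isAffineOpen_mem_and_subset (U := A.1 ⊓ A₀) (x := η) ⟨hηA, hηA₀⟩
    have hWA : W ≤ A.1 := fun z hz => (hWle hz).1
    have hWA₀ : W ≤ A₀ := fun z hz => (hWle hz).2
    let bW := he₀.basis W hWA₀
    let m' : Fin r → Γ(F, W) := fun i => mres F hWA (m i)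
    let V : X.affineOpens := ⟨W, hW⟩
    have hbW : (fun i => mres F hWA₀ (b₀ i)) = ⇑bW := funext fun i => (FinCov.IsFrame.basis_apply he₀ W hWA₀ i).symm
    have h1 : L.presheaf.germ A.1 η hηA ((φ' A).symm (exteriorPower.ιMulti _ r m)) =
        L.presheaf.germ W η hηW ((φ' V).symm (exteriorPower.ιMulti _ r m')) := by
      refine (TopCat.Presheaf.germ_res_apply L.presheaf (homOfLE hWA) η hηW _).symm.trans ?_
      exact congrArg _ (hφ A V hWA m)
    have h2 : e₀ = L.presheaf.germ W η hηW ((φ' V).symm (exteriorPower.ιMulti _ r bW)) := by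
      refine (TopCat.Presheaf.germ_res_apply L.presheaf (homOfLE hWA₀) η hηW _).symm.trans ?_
      rw [← hbW]
      exact congrArg _ (hφ ⟨A₀, hA₀⟩ V hWA₀ b₀)
    have hrepr : ∀ (v : Γ(F, W)) (i : Fin r), bK.repr (F.presheaf.germ W η hηW v) i =
        X.presheaf.germ W η hηW (bW.repr v i) := fun v i => by
      conv_lhs => rw [← bW.sum_repr v]
      rw [Euler.germ_sum_smul, map_sum]
      simp only [map_smul]
      have : ∀ j, F.presheaf.germ W η hηW (bW j) = bK j := fun j => by
        rw [hbK, show bW j = mres F hWA₀ (b₀ j) from (congrFun hbW j).symm]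
        exact TopCat.Presheaf.germ_res_apply _ _ _ _ _
      simp [this, Finsupp.single_apply]
    have hdet : bK.det (fun i => F.presheaf.germ A.1 η hηA (m i)) = X.presheaf.germ W η hηW (bW.det m') := by
      rw [Module.Basis.det_apply, Module.Basis.det_apply]
      refine Eq.trans (congrArg Matrix.det ?_) ((X.presheaf.germ W η hηW).hom.map_det (bW.toMatrix m')).symm
      ext i j
      rw [Module.Basis.toMatrix_apply, RingHom.mapMatrix_apply, Matrix.map_apply, Module.Basis.toMatrix_apply]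
      refine Eq.trans ?_ (hrepr _ i)
      exact congrArg (fun z => bK.repr z i) (TopCat.Presheaf.germ_res_apply F.presheaf (homOfLE hWA) η hηW (m j)).symm
    rw [h1, TensorGen.ιMulti_eq_det_smul bW m', map_smul, Mero.germ_smul, ← hdet, ← h2]
  refine ⟨bK, e₀, Ref1.gen_of_isGen (TensorGen.isGen_wedge hφ (U := ⟨A₀, hA₀⟩) he₀) hηA₀,
    fun x v => ?_, fun x P h0 hadd hsmul hgen l => ?_⟩
  · choose Uv hUv mv hmv using fun i => TopCat.Presheaf.exists_germ_eq F.presheaf (v i)
    let W₀ : X.Opens := ⟨⋂ i, (Uv i : Set X), isOpen_iInter_of_finite fun i => (Uv i).isOpen⟩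
    obtain ⟨A, hA, hxA, hAle⟩ := exists_isAffineOpen_mem_and_subset (U := W₀) (x := x) (Set.mem_iInter.2 hUv)
    have hAi : ∀ i, A ≤ Uv i := fun i z hz => Set.mem_iInter.1 (hAle hz) i
    let m : Fin r → Γ(F, A) := fun i => mres F (hAi i) (mv i)
    have hηA : η ∈ A := (hη x).mem_open A.2 hxA
    refine ⟨L.presheaf.germ A x hxA ((φ' ⟨A, hA⟩).symm (exteriorPower.ιMulti _ r m)), ?_⟩
    rw [Ref1.sp_germ]
    refine (key ⟨A, hA⟩ hηA m).trans ?_
    refine congrArg (fun w => bK.det w • e₀) (funext fun i => ?_)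
    rw [← hmv i, Ref1.sp_germ]
    exact TopCat.Presheaf.germ_res_apply F.presheaf _ η hηA (mv i)
  · obtain ⟨U₁, hxU₁, m₁, rfl⟩ := TopCat.Presheaf.exists_germ_eq L.presheaf l
    obtain ⟨A, hA, hxA, hAle⟩ := exists_isAffineOpen_mem_and_subset (U := U₁) (x := x) hxU₁
    have hAU : A ≤ U₁ := hAle
    have hηA : η ∈ A := (hη x).mem_open A.2 hxA
    rw [← TopCat.Presheaf.germ_res_apply L.presheaf (homOfLE hAU) x hxA m₁, Ref1.sp_germ]
    obtain ⟨z, hz'⟩ := (φ' ⟨A, hA⟩).symm.surjective (L.presheaf.map (homOfLE hAU).op m₁)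
    rw [← hz']
    have hz : z ∈ Submodule.span Γ(X, A) (Set.range (exteriorPower.ιMulti Γ(X, A) r (M := Γ(F, A)))) := by
      rw [exteriorPower.ιMulti_span]; exact Submodule.mem_top
    clear hz'
    induction hz using Submodule.span_induction with
    | mem y hy =>
      obtain ⟨m, rfl⟩ := hy
      rw [key ⟨A, hA⟩ hηA m]
      have := hgen fun i => F.presheaf.germ A x hxA (m i)
      simp only [Ref1.sp_germ] at this
      exact this
    | zero => rw [map_zero, map_zero]; exact h0
    | add p q _ _ hp hq => rw [map_add, map_add]; exact hadd _ _ hp hq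
    | smul c p _ hp =>
      rw [map_smul, Mero.germ_smul, ← Ref1.spR_germ (hη x) hxA c]
      exact hsmul _ _ hp

end GrothLib.DetMod12
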