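import Groth.Agent.Lib.DetMod12.Lattice
import Groth.Agent.Lib.DetMod12.Wedge
import Groth.Agent.Lib.Ref1.Bidual
import Groth.Agent.Lib.FacDiv.Basic
import Groth.Agent.Lib.CurvePoints.Basic
import Mathlib.RingTheory.Localization.Module

/-!
# Orders of determinants at points of codimension one
-/

set_option autoImplicit false
set_option backward.isDefEq.respectTransparency false
set_option linter.all false

universe u

open CategoryTheory CategoryTheory.Limits AlgebraicGeometry TopologicalSpace Opposite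
open GrothLib.Ref1 (sp spR hη Gen secOrd)
open GrothLib.FacDiv (ordg)

noncomputable section

namespace GrothLib.DetMod12

variable {X : Scheme.{u}} [IsIntegral X] [IsLocallyNoetherian X]

/-- The image of the wedge of `b` in the reflexive hull. -/
abbrev bidη (L : X.Modules) (e₀ : L.presheaf.stalk (genericPoint X)) :
    (RefHull.ddual L).presheaf.stalk (genericPoint X) :=
  RefHull.stalkMapₗ (RefHull.bidualMap L) (genericPoint X) e₀

/-- The combination of the images of `e`. -/
def comb {F : X.Modules} {r : ℕ} {x : X} (e : Fin r → F.presheaf.stalk x) (v : Fin r → X.presheaf.stalk x) :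
    F.presheaf.stalk (genericPoint X) :=
  ∑ i, spR (hη x) (v i) • sp F (hη x) (e i)

theorem exists_lattice_basis (hX : Pi1.IsNormalScheme X) {F : X.Modules} (hF : Coh.IsCoh F) {r : ℕ}
    (b : Module.Basis (Fin r) (X.presheaf.stalk (genericPoint X)) (F.presheaf.stalk (genericPoint X)))
    {x : X} (hx : Order.coheight x = 1) :
    ∃ e : Fin r → F.presheaf.stalk x, IsUnit (b.det fun i => sp F (hη x) (e i)) ∧
      Function.Injective (comb e) ∧ ∀ v, ∃ c, sp F (hη x) v = comb e c := by
  classical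
  let A := X.presheaf.stalk x
  let K := X.presheaf.stalk (genericPoint X)
  have := hF.1
  have := (hX x).1
  have := Ref1.isDiscreteValuationRing_of_dim_one hX (Ref1.dim_one_of_coheight hx)
  have := (HomSh.hasRel_of_isCoh hF).span_stalk x
  letI : Field K := CurvePoints.isField_stalk_genericPoint.toField
  letI : Algebra A K := (spR (hη x)).toAlgebra
  haveI : FaithfulSMul A K := (faithfulSMul_iff_algebraMap_injective _ _).2 (Ref1.spR_injective x)
  haveI : IsFractionRing A K := IsFractionRing.of_field A K fun z => by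
    obtain ⟨p, q, hq, hpq⟩ := Ref1.exists_spR_div x z
    refine ⟨p, q, ?_⟩
    show z = spR (hη x) p / spR (hη x) q
    rw [eq_div_iff (Ref1.isUnit_spR hq).ne_zero, mul_comm]
    exact hpq
  letI : Module A (F.presheaf.stalk (genericPoint X)) := Module.compHom _ (spR (hη x))
  haveI : IsScalarTower A K (F.presheaf.stalk (genericPoint X)) := IsScalarTower.of_algebraMap_smul fun _ _ => rfl
  haveI : Module.IsTorsionFree A (F.presheaf.stalk (genericPoint X)) := .of_smul_eq_zero fun a v h =>
    or_iff_not_imp_left.2 fun ha => (Ref1.isUnit_spR ha).smul_eq_zero.1 h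
  let f : F.presheaf.stalk x →ₗ[A] F.presheaf.stalk (genericPoint X) :=
    { toFun := sp F (hη x)
      map_add' := map_add _
      map_smul' := fun a v => Ref1.sp_smul F (hη x) a v }
  let Λ := LinearMap.range f
  haveI : Module.Free A Λ := Module.free_of_finite_type_torsion_free'
  let bΛ := Module.Free.chooseBasis A Λ
  let w := fun i => (bΛ i : F.presheaf.stalk (genericPoint X))
  have hwA : LinearIndependent A w := bΛ.linearIndependent.map' Λ.subtype Λ.ker_subtype
  have hwK : LinearIndependent K w := (LinearIndependent.iff_fractionRing A K).1 hwA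
  have hexp : ∀ v, ∃ c : Module.Free.ChooseBasisIndex A Λ → A, sp F (hη x) v = ∑ i, spR (hη x) (c i) • w i := fun v => by
    refine ⟨bΛ.repr ⟨f v, LinearMap.mem_range_self f v⟩, ?_⟩
    have := congrArg Subtype.val (bΛ.sum_repr ⟨f v, LinearMap.mem_range_self f v⟩)
    simp only [Submodule.coe_sum, Submodule.coe_smul] at this
    exact this.symm
  have hspan : Submodule.span K (Set.range w) = ⊤ := by
    refine eq_top_iff.2 fun z _ => ?_
    obtain ⟨a, v, ha, hav⟩ := Ref1.exists_sp_smul F (hη x) z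
    obtain ⟨c, hc⟩ := hexp v
    obtain ⟨u, hu⟩ := ha
    have : z = (↑u⁻¹ : K) • sp F (hη x) v := by rw [← hav, ← hu, ← mul_smul, Units.inv_mul, one_smul]
    rw [this, hc]
    exact Submodule.smul_mem _ _ (Submodule.sum_mem _ fun i _ => Submodule.smul_mem _ _ (Submodule.subset_span ⟨i, rfl⟩))
  let bK' := Module.Basis.mk hwK hspan.ge
  let σ := bK'.indexEquiv b
  choose e he using fun i => (bΛ (σ.symm i)).2
  have he' : ∀ i, sp F (hη x) (e i) = w (σ.symm i) := he
  refine ⟨e, ?_, ?_, fun v => ?_⟩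
  · rw [funext he']
    refine (Module.Basis.is_basis_iff_det b).1 ⟨hwK.comp _ σ.symm.injective, ?_⟩
    rw [show Set.range (fun i => w (σ.symm i)) = Set.range w from σ.symm.surjective.range_comp w]
    exact hspan
  · intro v v' hvv
    have hli := hwA.comp _ σ.symm.injective
    refine funext fun i => ?_
    refine congrFun ((Fintype.linearIndependent_iff'ₛ.1 hli) (a₁ := v) (a₂ := v') ?_) i
    simp only [comb, he'] at hvv
    simpa [Fintype.linearCombination_apply] using! hvv
  · obtain ⟨c, hc⟩ := hexp v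
    refine ⟨fun i => c (σ.symm i), hc.trans ?_⟩
    simp only [comb, he']
    exact (Equiv.sum_comp σ.symm (fun i => spR (hη x) (c i) • w i)).symm

/-- The reflexive hull of a determinant is generated at `x` by the wedge of a lattice basis. -/
theorem secOrd_bid (hX : Pi1.IsNormalScheme X) {F L : X.Modules} {r : ℕ} (hL : HomSh.HasRel L)
    {b : Module.Basis (Fin r) (X.presheaf.stalk (genericPoint X)) (F.presheaf.stalk (genericPoint X))}
    {e₀ : L.presheaf.stalk (genericPoint X)} (he₀ : Gen L (genericPoint X) e₀)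
    {x : X} (hx : Order.coheight x = 1)
    (hwedge : ∀ v : Fin r → F.presheaf.stalk x, ∃ l : L.presheaf.stalk x,
        sp L (hη x) l = b.det (fun i => sp F (hη x) (v i)) • e₀)
    (hind : ∀ (P : L.presheaf.stalk (genericPoint X) → Prop), P 0 → (∀ p q, P p → P q → P (p + q)) →
        (∀ (c : X.presheaf.stalk x) p, P p → P (spR (hη x) c • p)) →
        (∀ v : Fin r → F.presheaf.stalk x, P (b.det (fun i => sp F (hη x) (v i)) • e₀)) →
        ∀ l : L.presheaf.stalk x, P (sp L (hη x) l))
    {e : Fin r → F.presheaf.stalk x} (hd : IsUnit (b.det fun i => sp F (hη x) (e i)))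
    (hexp : ∀ v, ∃ c, sp F (hη x) v = comb e c) :
    (∃ t, Gen (RefHull.ddual L) x t) ∧
      secOrd (RefHull.ddual L) (bidη L e₀) x = -ordg (b.det fun i => sp F (hη x) (e i)) x := by
  classical
  let A := X.presheaf.stalk x
  set d := b.det fun i => sp F (hη x) (e i)
  have href := Ref1.isRef1_ddual hL he₀
  have := href.1.1
  have hgη := Ref1.gen_bidual hL he₀
  have := (hX x).1
  have := Ref1.isDiscreteValuationRing_of_dim_one hX (Ref1.dim_one_of_coheight hx)
  have := hL.span_stalk x
  obtain ⟨l, hl⟩ := hwedge e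
  let t := RefHull.stalkMapₗ (RefHull.bidualMap L) x l
  have ht : sp (RefHull.ddual L) (hη x) t = d • bidη L e₀ := by
    rw [← Ref1.stalkMapₗ_sp, hl, map_smul]
  have hd' : ∀ (c : Fin r → Fin r → A),
      b.det (fun j => comb e (c j)) = spR (hη x) (Matrix.det (Matrix.of fun i j => c j i)) * d := fun c => by
    rw [Module.Basis.det_apply, show d = (b.toMatrix fun i => sp F (hη x) (e i)).det from Module.Basis.det_apply b _,
      RingHom.map_det, mul_comm, ← Matrix.det_mul]
    congr 1
    ext i j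
    simp [comb, Module.Basis.toMatrix_apply, Matrix.mul_apply, mul_comm]
  have hall : ∀ u : L.presheaf.stalk x, ∃ c : A, sp L (hη x) u = spR (hη x) c • (d • e₀) := by
    refine hind (fun p => ∃ c : A, p = spR (hη x) c • (d • e₀)) ⟨0, by rw [map_zero, zero_smul]⟩ ?_ ?_ ?_
    · rintro _ _ ⟨c, rfl⟩ ⟨c', rfl⟩
      exact ⟨c + c', by rw [map_add, add_smul]⟩
    · rintro a _ ⟨c, rfl⟩
      exact ⟨a * c, by rw [map_mul, mul_smul]⟩
    · intro v
      choose c hc using fun j => hexp (v j)
      exact ⟨_, by rw [funext hc, hd', mul_smul]⟩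
  have hinj := Ref1.injective_sp_of_isRef1 hX href x
  have hgd : Gen (RefHull.ddual L) (genericPoint X) (d • bidη L e₀) :=
    Ref1.gen_of_ne_zero hgη fun h => hgη.ne_zero (hd.smul_eq_zero.1 h)
  have hgen : Gen (RefHull.ddual L) x t := by
    refine ⟨fun p q hpq => ?_, fun u => ?_⟩
    · have := congrArg (sp (RefHull.ddual L) (hη x)) hpq
      rw [Ref1.sp_smul, Ref1.sp_smul, ht] at this
      exact Ref1.spR_injective x (hgd.1 this)
    · obtain ⟨u', rfl⟩ := Ref1.bidual_stalk_surjective hL x
        (Ref1.bidual_surjective_of_pid _ _) u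
      obtain ⟨c, hc⟩ := hall u'
      refine ⟨c, hinj ?_⟩
      rw [Ref1.sp_smul, ht, ← Ref1.stalkMapₗ_sp, hc, map_smul, map_smul]
  refine ⟨⟨t, hgen⟩, ?_⟩
  have h1 : secOrd (RefHull.ddual L) (d • bidη L e₀) x = 0 := by
    have := Ref1.secOrd_gen hx hgen (φ := 1) one_ne_zero
    rw [one_smul, ht] at this
    exact this.trans (FacDiv.ordg_one x)
  have h2 := Ref1.secOrd_smul hx hgen hd.ne_zero hgη.ne_zero
  rw [h1] at h2
  replace h2 : (0 : ℤ) = ordg d x + secOrd (RefHull.ddual L) (bidη L e₀) x := h2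
  omega

/-- The change of the determinant under a map with cokernel killed by the uniformiser. -/
theorem exists_secOrd_compare (hX : Pi1.IsNormalScheme X) {F F' L L' : X.Modules} (hF : Coh.IsCoh F)
    (hF' : Coh.IsCoh F') (a : F ⟶ F') {r s : ℕ} (hL : HomSh.HasRel L) (hL' : HomSh.HasRel L')
    {b : Module.Basis (Fin r) (X.presheaf.stalk (genericPoint X)) (F.presheaf.stalk (genericPoint X))}
    {b' : Module.Basis (Fin r) (X.presheaf.stalk (genericPoint X)) (F'.presheaf.stalk (genericPoint X))}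
    {e₀ : L.presheaf.stalk (genericPoint X)} (he₀ : Gen L (genericPoint X) e₀)
    {e₀' : L'.presheaf.stalk (genericPoint X)} (he₀' : Gen L' (genericPoint X) e₀')
    {x : X} (hx : Order.coheight x = 1)
    (hwedge : ∀ v : Fin r → F.presheaf.stalk x, ∃ l : L.presheaf.stalk x,
        sp L (hη x) l = b.det (fun i => sp F (hη x) (v i)) • e₀)
    (hind : ∀ (P : L.presheaf.stalk (genericPoint X) → Prop), P 0 → (∀ p q, P p → P q → P (p + q)) →
        (∀ (c : X.presheaf.stalk x) p, P p → P (spR (hη x) c • p)) →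
        (∀ v : Fin r → F.presheaf.stalk x, P (b.det (fun i => sp F (hη x) (v i)) • e₀)) →
        ∀ l : L.presheaf.stalk x, P (sp L (hη x) l))
    (hwedge' : ∀ v : Fin r → F'.presheaf.stalk x, ∃ l : L'.presheaf.stalk x,
        sp L' (hη x) l = b'.det (fun i => sp F' (hη x) (v i)) • e₀')
    (hind' : ∀ (P : L'.presheaf.stalk (genericPoint X) → Prop), P 0 → (∀ p q, P p → P q → P (p + q)) →
        (∀ (c : X.presheaf.stalk x) p, P p → P (spR (hη x) c • p)) →
        (∀ v : Fin r → F'.presheaf.stalk x, P (b'.det (fun i => sp F' (hη x) (v i)) • e₀')) →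
        ∀ l : L'.presheaf.stalk x, P (sp L' (hη x) l))
    (hD : IsUnit (b'.det fun j => RefHull.stalkMapₗ a (genericPoint X) (b j)))
    {ϖ : X.presheaf.stalk x} (hϖ : Irreducible ϖ)
    (hkill : ∀ u, ϖ • u ∈ LinearMap.range (RefHull.stalkMapₗ a x)) (y : Fin s → F'.presheaf.stalk x)
    (hy : Submodule.span (X.presheaf.stalk x) (Set.range y) ⊔ LinearMap.range (RefHull.stalkMapₗ a x) = ⊤) :
    (∃ t, Gen (RefHull.ddual L) x t) ∧ (∃ t, Gen (RefHull.ddual L') x t) ∧ ∃ k ≤ min s r,
      secOrd (RefHull.ddual L') ((b'.det fun j => RefHull.stalkMapₗ a (genericPoint X) (b j)) • bidη L' e₀') x =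
        secOrd (RefHull.ddual L) (bidη L e₀) x + k := by
  classical
  let A := X.presheaf.stalk x
  let K := X.presheaf.stalk (genericPoint X)
  let aη := RefHull.stalkMapₗ a (genericPoint X)
  obtain ⟨e, hd, hei, hexp⟩ := exists_lattice_basis hX hF b hx
  obtain ⟨e', hd', hei', hexp'⟩ := exists_lattice_basis hX hF' b' hx
  obtain ⟨hgL, hord⟩ := secOrd_bid hX hL he₀ hx hwedge hind hd hexp
  obtain ⟨hgL', hord'⟩ := secOrd_bid hX hL' he₀' hx hwedge' hind' hd' hexp'
  refine ⟨hgL, hgL', ?_⟩
  have := (hX x).1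
  have := Ref1.isDiscreteValuationRing_of_dim_one hX (Ref1.dim_one_of_coheight hx)
  choose cM hcM using fun j => hexp' (RefHull.stalkMapₗ a x (e j))
  let M : Matrix (Fin r) (Fin r) A := Matrix.of fun i j => cM j i
  have haM : ∀ v, aη (comb e v) = comb e' (Matrix.toLin' M v) := fun v => by
    simp only [comb, map_sum, map_smul]
    simp only [aη, Ref1.stalkMapₗ_sp, hcM, comb, Finset.smul_sum, Matrix.toLin'_apply, Matrix.mulVec, dotProduct,
      map_sum, Finset.sum_smul, ← mul_smul, ← map_mul, M, Matrix.of_apply]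
    rw [Finset.sum_comm]
    simp only [mul_comm]
  have hrel : (b'.det fun j => aη (b j)) * (b.det fun i => sp F (hη x) (e i)) =
      spR (hη x) M.det * (b'.det fun i => sp F' (hη x) (e' i)) := by
    have h1 : b'.det.compLinearMap aη = (b'.det fun j => aη (b j)) • b.det :=
      AlternatingMap.eq_smul_basis_det b _
    have h2 := DFunLike.congr_fun h1 fun i => sp F (hη x) (e i)
    simp only [AlternatingMap.compLinearMap_apply, AlternatingMap.smul_apply, smul_eq_mul] at h2
    rw [← h2, Module.Basis.det_apply, Module.Basis.det_apply, RingHom.map_det, mul_comm, ← Matrix.det_mul]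
    congr 1
    ext i j
    rw [Module.Basis.toMatrix_apply]
    simp only [Function.comp_apply, aη, Ref1.stalkMapₗ_sp, hcM, comb, map_sum, map_smul, Finsupp.coe_finsetSum,
      Finset.sum_apply, Finsupp.coe_smul, Pi.smul_apply, smul_eq_mul]
    simp [Matrix.mul_apply, Module.Basis.toMatrix_apply, M, mul_comm]
  have hdet : M.det ≠ 0 := fun h => by
    rw [h, map_zero, zero_mul, mul_eq_zero] at hrel
    exact hrel.elim hD.ne_zero hd.ne_zero
  have hcoord : ∀ (u : F'.presheaf.stalk x) (v : Fin r → A), sp F' (hη x) u = comb e' v →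
      u ∈ LinearMap.range (RefHull.stalkMapₗ a x) → v ∈ LinearMap.range (Matrix.toLin' M) := by
    rintro u v hu ⟨m, rfl⟩
    obtain ⟨c, hc⟩ := hexp m
    refine ⟨c, hei' ?_⟩
    rw [← haM, ← hc, ← hu]
    exact Ref1.stalkMapₗ_sp _ _ _ _
  choose g hg using fun j => hexp' (y j)
  obtain ⟨k, hk, hassoc⟩ := exists_associated_det_pow hϖ M hdet (fun v => by
      refine hcoord (ϖ • ∑ i, v i • e' i) _ ?_ (hkill _)
      simp [comb, Ref1.sp_smul, map_sum, Finset.smul_sum, mul_smul]) g (by
      refine eq_top_iff.2 fun v _ => ?_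
      obtain ⟨p, hp, q, hq, hpq⟩ := Submodule.mem_sup.1 (hy.ge (Submodule.mem_top (x := ∑ i, v i • e' i)))
      obtain ⟨d, rfl⟩ := (Submodule.mem_span_range_iff_exists_fun _).1 hp
      have hv : v - ∑ j, d j • g j ∈ LinearMap.range (Matrix.toLin' M) := by
        refine hcoord q _ ?_ hq
        have hsum := congrArg (sp F' (hη x)) hpq
        simp only [map_add, map_sum, Ref1.sp_smul, hg] at hsum
        rw [eq_sub_of_add_eq' hsum]
        simp only [comb, Pi.sub_apply, Finset.sum_apply, Pi.smul_apply, smul_eq_mul, map_sub, map_sum, map_mul,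
          sub_smul, Finset.sum_sub_distrib, Finset.sum_smul, mul_smul, Finset.smul_sum]
        rw [Finset.sum_comm]
      rw [← sub_add_cancel v (∑ j, d j • g j), add_comm]
      exact Submodule.add_mem_sup (Submodule.sum_mem _ fun j _ =>
        Submodule.smul_mem _ _ (Submodule.subset_span ⟨j, rfl⟩)) hv)
  refine ⟨k, hk, ?_⟩
  obtain ⟨ϖ₀, hϖ₀, hϖ1, hfac⟩ := FacDiv.exists_irreducible_ord hX hx
  have hϖord : ordg (spR (hη x) ϖ) x = 1 := by
    obtain ⟨n, u, hu, hn⟩ := hfac ϖ hϖ.ne_zero
    have hϖ₀' : ¬ IsUnit ϖ₀ := fun h => hϖ.not_isUnit (hn ▸ hu.mul (h.pow n))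
    rcases Nat.lt_or_ge n 1 with h | h
    · obtain rfl : n = 0 := by omega
      exact absurd (by rw [hn, pow_zero, mul_one]; exact hu) hϖ.not_isUnit
    have hn1 : n = 1 := by
      by_contra hne
      obtain ⟨j, rfl⟩ : ∃ j, n = j + 2 := ⟨n - 2, by omega⟩
      rw [pow_succ, ← mul_assoc] at hn
      rcases hϖ.isUnit_or_isUnit hn with h' | h'
      · rw [IsUnit.mul_iff, pow_succ, IsUnit.mul_iff] at h'
        exact hϖ₀' h'.2.2
      · exact hϖ₀' h'
    subst hn1
    rw [hn, pow_one, map_mul, FacDiv.ordg_mul (Ref1.isUnit_spR hu.ne_zero).ne_zero (Ref1.isUnit_spR hϖ₀).ne_zero, hϖ1]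
    have : ordg (spR (hη x) u) x = 0 := Ref1.ord_spR_of_isUnit hu
    omega
  have hMord : ordg (spR (hη x) M.det) x = k := by
    obtain ⟨u, hu⟩ := hassoc.symm
    rw [← hu, map_mul, FacDiv.ordg_mul (Ref1.isUnit_spR (pow_ne_zero k hϖ.ne_zero)).ne_zero
      (Ref1.isUnit_spR u.ne_zero).ne_zero, map_pow, FacDiv.ordg_pow (Ref1.isUnit_spR hϖ.ne_zero).ne_zero, hϖord]
    have : ordg (spR (hη x) (u : A)) x = 0 := Ref1.ord_spR_of_isUnit u.isUnit
    omega
  have h1 := congrArg (fun z => ordg z x) hrel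
  rw [FacDiv.ordg_mul hD.ne_zero hd.ne_zero, FacDiv.ordg_mul (Ref1.isUnit_spR hdet).ne_zero hd'.ne_zero, hMord] at h1
  obtain ⟨t', ht'⟩ := hgL'
  have := (Ref1.isRef1_ddual hL' he₀').1.1
  have h2 : secOrd (RefHull.ddual L') ((b'.det fun j => aη (b j)) • bidη L' e₀') x =
      ordg (b'.det fun j => aη (b j)) x + secOrd (RefHull.ddual L') (bidη L' e₀') x :=
    Ref1.secOrd_smul hx ht' hD.ne_zero (Ref1.gen_bidual hL' he₀').ne_zero
  rw [h2, hord', hord]
  simp only [aη] at h1 ⊢
  omega

end GrothLib.DetMod12
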