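import Groth.Agent.Lib.DetMod12.Local
import Groth.Agent.Lib.DetMod12.Div
import Groth.Prelude.Def_ExtPow2
import Groth.Prelude.Def_RefHull

/-!
# Determinants of a modification along an integral effective Cartier divisor
-/

set_option autoImplicit false
set_option backward.isDefEq.respectTransparency false
set_option linter.all false

universe u

open CategoryTheory CategoryTheory.Limits AlgebraicGeometry TopologicalSpace Opposite
open GrothLib.Ref1 (sp spR hη Gen secOrd)

noncomputable section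

namespace GrothLib.DetMod12

theorem main (X : Scheme.{u}) [IsIntegral X] [IsLocallyNoetherian X]
    (hreg : ∀ x : X, IsRegularLocalRing (X.presheaf.stalk x))
    (𝓓 : X.IdealSheafData) (hD : BlowUp.IsEffCartierIdeal 𝓓) (hDi : IsIntegral 𝓓.subscheme) (s : ℕ)
    (G : (𝓓.subscheme).Modules) (hG : FlatMod.IsFinLocFreeOfRank s G) (F F' : X.Modules) (hF : Coh.IsCoh F)
    (hF' : Coh.IsCoh F') (a : F ⟶ F') (b : F' ⟶ (Scheme.Modules.pushforward 𝓓.subschemeι).obj G) (w : a ≫ b = 0)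
    (hex : (ShortComplex.mk a b w).Exact) (hb : Epi b) (r : ℕ)
    (hU : ∃ U : X.Opens, (U : Set X).Nonempty ∧ FlatMod.IsFinLocFreeOfRank r (F.restrict U.ι) ∧
      FlatMod.IsFinLocFreeOfRank r (F'.restrict U.ι))
    (L L' : X.Modules) (hL : ExtPow.IsExtPow r F L) (hL' : ExtPow.IsExtPow r F' L') :
    PicF.IsInvertible (RefHull.ddual L) ∧ PicF.IsInvertible (RefHull.ddual L') ∧
      ∃ k : ℕ, k ≤ min s r ∧
        Nonempty (RefHull.ddual L' ≅
          CohB1.tensorMod (RefHull.ddual L) (CohB1.tensorPow (RefHull.dual (ClSub.idealMod 𝓓)) k)) := by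
  classical
  let η := genericPoint X
  let K := X.presheaf.stalk η
  have hX := normal_of_regular hreg
  obtain ⟨U, hUne, hFU, hFU'⟩ := hU
  have hηU : η ∈ U := ((genericPoint_spec X).mem_open_set_iff U.2).2 (by simpa using hUne)
  have hLR := HomSh.hasRel_of_isCoh (isCoh_of_isExtPow hF hL)
  have hLR' := HomSh.hasRel_of_isCoh (isCoh_of_isExtPow hF' hL')
  obtain ⟨bK, e₀, he₀, hw, hind⟩ := exists_wedge hL U hηU hFU
  obtain ⟨bK', e₀', he₀', hw', hind'⟩ := exists_wedge hL' U hηU hFU'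
  have href := Ref1.isRef1_ddual hLR he₀
  have href' := Ref1.isRef1_ddual hLR' he₀'
  have hinv := isInvertible_of_regular hreg href
  have hinv' := isInvertible_of_regular hreg href'
  refine ⟨hinv, hinv', ?_⟩
  obtain ⟨ξ, ϖ, hϖ, hϖ0, hspan, hcoh, huniq, hηD⟩ := exists_divisor_point hD hDi
  obtain ⟨hsurj, hcok⟩ := stalk_cokernel hG a b w hex hb
  obtain ⟨hT, θ, hθ0, hθ1, hθ2⟩ := exists_secOrd_dual_idealMod hreg hD ξ ϖ hϖ hspan hηD
  have hD' : IsUnit (bK'.det fun j => RefHull.stalkMapₗ a η (bK j)) := by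
    letI : Field K := CurvePoints.isField_stalk_genericPoint.toField
    refine (Module.Basis.is_basis_iff_det bK').1 ?_
    have htop : ⊤ ≤ Submodule.span K (Set.range fun j => RefHull.stalkMapₗ a η (bK j)) := fun u _ => by
      obtain ⟨v, rfl⟩ := hsurj η hηD u
      rw [← bK.sum_repr v, map_sum]
      exact Submodule.sum_mem _ fun j _ => by
        rw [map_smul]; exact Submodule.smul_mem _ _ (Submodule.subset_span ⟨j, rfl⟩)
    refine ⟨linearIndependent_of_top_le_span_of_card_eq_finrank htop ?_, top_le_iff.1 htop⟩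
    rw [Module.finrank_eq_card_basis bK']
  let v := bidη L e₀
  let w' := (bK'.det fun j => RefHull.stalkMapₗ a η (bK j)) • bidη L' e₀'
  have hv : v ≠ 0 := (Ref1.gen_bidual hLR he₀).ne_zero
  have hw0 : w' ≠ 0 := fun h => (Ref1.gen_bidual hLR' he₀').ne_zero (hD'.smul_eq_zero.1 h)
  obtain ⟨yξ, hyξ⟩ := (hcok ξ ϖ hϖ0).2
  obtain ⟨-, -, k, hk, hkord⟩ := exists_secOrd_compare hX hF hF' a hLR hLR' he₀ he₀' hcoh (hw _) (hind _) (hw' _)
    (hind' _) hD' hϖ (hcok ξ ϖ hϖ0).1 yξ hyξ
  refine ⟨k, hk, ?_⟩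
  have hpow := Ample.isInvertible_tensorPow hT k
  obtain ⟨θk, hθk0, hθk⟩ := exists_secOrd_tensorPow hT hθ0 k
  refine Ref1.nonempty_iso_of_secOrd_eq hX href'
    (FacDiv.isRef1_of_isInvertible (Ample.isInvertible_tensorMod hinv hpow)) hw0
    (tmul_ne_zero hinv hpow hv hθk0) fun x hx => ?_
  rw [(secOrd_tmul hinv hpow hv hθk0 hx).2, hθk x hx]
  by_cases hxD : x ∈ Set.range 𝓓.subschemeι
  · obtain rfl := huniq x hx hxD
    rw [hθ1 hx, mul_one]
    exact hkord
  · obtain ⟨ϖ₁, hϖ₁⟩ : ∃ p : X.presheaf.stalk x, Irreducible p := by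
      have := (hX x).1
      have := Ref1.isDiscreteValuationRing_of_dim_one hX (Ref1.dim_one_of_coheight hx)
      exact IsDiscreteValuationRing.exists_irreducible _
    have hs := hsurj x hxD
    obtain ⟨-, -, k₀, hk₀, hk₀ord⟩ := exists_secOrd_compare (s := 0) hX hF hF' a hLR hLR' he₀ he₀' hx (hw _)
      (hind _) (hw' _) (hind' _) hD' hϖ₁ (fun u => hs _) Fin.elim0
      (by rw [LinearMap.range_eq_top.2 hs, sup_top_eq])
    rw [hθ2 x hx hxD, mul_zero, add_zero]
    rw [show k₀ = 0 by omega, Nat.cast_zero, add_zero] at hk₀ord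
    exact hk₀ord

end GrothLib.DetMod12
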